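import Groth.Agent.InfLiftLib.Torsor
import Groth.Agent.S12483
import Groth.Agent.S1486
import Groth.Agent.EtAlgEasy.OmegaSmooth3
import Groth.Agent.DefExtLib.OmegaExt

/-!
Lifting along smooth morphisms.
-/

set_option autoImplicit false
set_option backward.isDefEq.respectTransparency false
set_option backward.isDefEq.respectTransparency.types false
set_option linter.style.haveILetI false

universe u

open CategoryTheory CategoryTheory.Limits AlgebraicGeometry TopologicalSpace Opposite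

noncomputable section

namespace Groth.Agent.InfLiftLib

variable {P : Prob.{u}}

/-- A formally smooth morphism has lifts over small affines. -/
theorem exists_local_lift_of_formallySmooth (hfs : ∀ r : P.Ix, (P.f.appLE r.W r.V r.VW).hom.FormallySmooth)
    (z : P.T₀) : ∃ (O : P.T.Opens) (_ : P.Lift O), P.i z ∈ O := by
  obtain ⟨r, hz, -, -⟩ := P.exists_ix z (show P.i z ∈ (⊤ : P.T.Opens) from trivial)
    (show P.a₀ z ∈ (⊤ : P.X.Opens) from trivial)
  letI := (P.f.appLE r.W r.V r.VW).hom.toAlgebra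
  letI := (P.a.appLE r.W r.O r.OW).hom.toAlgebra
  letI : Algebra Γ(P.S, r.W) Γ(P.T₀, P.i ⁻¹ᵁ r.O) :=
    ((P.i.app r.O).hom.comp (P.a.appLE r.W r.O r.OW).hom).toAlgebra
  haveI : Algebra.FormallySmooth Γ(P.S, r.W) Γ(P.X, r.V) := hfs r
  let g : Γ(P.T, r.O) →ₐ[Γ(P.S, r.W)] Γ(P.T₀, P.i ⁻¹ᵁ r.O) :=
    AlgHom.mk (P.i.app r.O).hom fun _ => rfl
  let f : Γ(P.X, r.V) →ₐ[Γ(P.S, r.W)] Γ(P.T₀, P.i ⁻¹ᵁ r.O) :=
    AlgHom.mk (P.a₀.appLE r.V (P.i ⁻¹ᵁ r.O) r.OV).hom fun c => by
      show (P.f.appLE r.W r.V r.VW ≫ P.a₀.appLE r.V (P.i ⁻¹ᵁ r.O) r.OV) c =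
        (P.a.appLE r.W r.O r.OW ≫ P.i.app r.O) c
      rw [Scheme.Hom.app_eq_appLE, Scheme.Hom.appLE_comp_appLE, Scheme.Hom.appLE_comp_appLE]
      simp only [P.comm]
  have hnil : IsNilpotent (RingHom.ker (g : Γ(P.T, r.O) →+* Γ(P.T₀, P.i ⁻¹ᵁ r.O))) :=
    ⟨2, by
      rw [pow_two]
      exact le_bot_iff.1 (Ideal.mul_le.2 fun x hx y hy => Ideal.mem_bot.2 (P.sq ⟨r.O, r.affO⟩ x y hx hy))⟩
  let ψ := Algebra.FormallySmooth.liftOfSurjective f g (P.i.app_surjective r.O r.affO) hnil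
  obtain ⟨L, -⟩ := P.exists_lift r (CommRingCat.ofHom ψ.toRingHom)
    (CommRingCat.hom_ext (RingHom.ext fun c => ψ.commutes c))
    (CommRingCat.hom_ext (RingHom.ext fun b => Algebra.FormallySmooth.liftOfSurjective_apply f g _ hnil b))
  exact ⟨r.O, L, hz⟩

/-- A smooth morphism has lifts over small affines. -/
theorem exists_local_lift [Smooth P.f] (z : P.T₀) : ∃ (O : P.T.Opens) (_ : P.Lift O), P.i z ∈ O :=
  exists_local_lift_of_formallySmooth (fun r => by
    letI := (P.f.appLE r.W r.V r.VW).hom.toAlgebra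
    haveI : Algebra.Smooth Γ(P.S, r.W) Γ(P.X, r.V) :=
      RingHom.smooth_algebraMap.1 (P.f.smooth_appLE r.affW r.affV r.VW)
    exact (inferInstance : Algebra.FormallySmooth Γ(P.S, r.W) Γ(P.X, r.V))) z

theorem isFinLocFree_omega {X Y : Scheme.{u}} (f : X ⟶ Y) [Smooth f] [QuasiSeparated f] :
    FlatMod.IsFinLocFree (Omega.sheaf f) := by
  have hfs : MoreMor.IsFormallySmoothHom f := (Groth.Agent.S1486.result f).2 fun U V hU hV hUV => by
    letI := (f.appLE V U hUV).hom.toAlgebra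
    haveI : Algebra.Smooth Γ(Y, V) Γ(X, U) := RingHom.smooth_algebraMap.1 (f.smooth_appLE hV hU hUV)
    infer_instance
  exact EtAlgEasy.OmegaSmooth.isFinLocFree_omega f hfs (OmegaUnivLib.isUniversal_dOmega f)

theorem isFinLocFree_F [Smooth P.f] [QuasiSeparated P.f] : FlatMod.IsFinLocFree P.F :=
  PullbackMod.isFinLocFree_pullback P.a₀ _ (isFinLocFree_omega P.f)

/-- Vanishing of the first extension group gives a lift. -/
theorem exists_lift_of_ext' [QuasiSeparated P.f] [HasExt.{u} P.T₀.Modules]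
    (hfs : ∀ r : P.Ix, (P.f.appLE r.W r.V r.VW).hom.FormallySmooth) {F' N' : P.T₀.Modules}
    (d : P.F ≅ F') (e : P.N ≅ N') (hF : FlatMod.IsFinLocFree P.F)
    (h1 : Subsingleton (Abelian.Ext.{u} F' N' 1)) :
    ∃ b' : P.T ⟶ P.X, b' ≫ P.f = P.a ∧ P.i ≫ b' = P.a₀ := by
  haveI := isQCoh_F (P := P)
  haveI := DefExtLib.hasSheafHom P.F
  haveI : Subsingleton (Abelian.Ext.{u} P.F N' 1) :=
    @Equiv.subsingleton _ _ (((Abelian.extFunctor.{u} 1).mapIso d.op).app N').addCommGroupIsoToAddEquiv.toEquiv.symm h1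
  obtain ⟨w⟩ := Groth.Agent.S12483.result P.T₀ P.F N' hF 1
  haveI : Subsingleton (Coh.HH P.T₀ ((DCoh.sheafHom P.F).obj N') 1) := w.symm.toEquiv.subsingleton
  haveI := subsingleton_HH_of_iso ((DCoh.sheafHom P.F).mapIso e.symm) 1
  obtain ⟨v⟩ := nonempty_homSh_iso P.F P.N
  haveI := subsingleton_HH_of_iso v 1
  exact exists_lift_of_subsingleton (exists_local_lift_of_formallySmooth hfs)

/-- Vanishing of the first extension group gives a lift. -/
theorem exists_lift_of_ext [Smooth P.f] [QuasiSeparated P.f] [HasExt.{u} P.T₀.Modules] {N' : P.T₀.Modules}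
    (e : P.N ≅ N') (h1 : Subsingleton (Abelian.Ext.{u} P.F N' 1)) :
    ∃ b' : P.T ⟶ P.X, b' ≫ P.f = P.a ∧ P.i ≫ b' = P.a₀ :=
  exists_lift_of_ext' (fun r => by
    letI := (P.f.appLE r.W r.V r.VW).hom.toAlgebra
    haveI : Algebra.Smooth Γ(P.S, r.W) Γ(P.X, r.V) :=
      RingHom.smooth_algebraMap.1 (P.f.smooth_appLE r.affW r.affV r.VW)
    exact (inferInstance : Algebra.FormallySmooth Γ(P.S, r.W) Γ(P.X, r.V))) (Iso.refl _) e isFinLocFree_F h1

/-- A square zero ideal gives square zero kernels. -/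
theorem sq_of_ideal {T : Scheme.{u}} (J : T.IdealSheafData) (hJ : J ^ 2 = ⊥) (U : T.affineOpens) (x y : Γ(T, U.1))
    (hx : x ∈ RingHom.ker (J.subschemeι.app U.1).hom) (hy : y ∈ RingHom.ker (J.subschemeι.app U.1).hom) :
    x * y = 0 := by
  rw [Scheme.IdealSheafData.ker_subschemeι_app] at hx hy
  have h := Ideal.mul_mem_mul hx hy
  rw [← pow_two, show J.ideal U ^ 2 = (J ^ 2).ideal U by rw [Scheme.IdealSheafData.ideal_pow]; rfl, hJ,
    Scheme.IdealSheafData.ideal_bot] at h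
  exact Ideal.mem_bot.1 h

/-- The conormal sheaf of a closed subscheme. -/
def conormalIso {T : Scheme.{u}} (J : T.IdealSheafData) :
    Omega.conormal J.subschemeι ≅ (Scheme.Modules.pullback J.subschemeι).obj (ClSub.idealMod J) :=
  (Scheme.Modules.pullback J.subschemeι).mapIso (eqToIso (by rw [Scheme.IdealSheafData.ker_subschemeι]))

end Groth.Agent.InfLiftLib
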