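import Groth.Agent.InfLiftLib.Diff
import Groth.Agent.ObsLiftLib.CechOne
import Groth.Agent.CohBase.Affine
import Groth.Agent.DefExtLib.HomIso

/-!
Local lifts give a global lift when the first cohomology of the sheaf of homomorphisms vanishes.
-/

set_option autoImplicit false
set_option backward.isDefEq.respectTransparency false
set_option backward.isDefEq.respectTransparency.types false
set_option linter.style.haveILetI false

universe u

open CategoryTheory CategoryTheory.Limits AlgebraicGeometry TopologicalSpace Opposite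
open Groth.Agent.CohBase

noncomputable section

namespace Groth.Agent.InfLiftLib

theorem subsingleton_HH_of_iso {Z : Scheme.{u}} {M N : Z.Modules} (e : M ≅ N) (n : ℕ)
    [Subsingleton (Coh.HH Z M n)] : Subsingleton (Coh.HH Z N n) := by
  let F := (SheafOfModules.toSheaf Z.ringCatSheaf)
  have h : Function.LeftInverse (fun y => Sheaf.H.map (F.map e.hom) n y) (fun x => Sheaf.H.map (F.map e.inv) n x) :=
    fun x => by
      show Sheaf.H.map (F.map e.hom) n (Sheaf.H.map (F.map e.inv) n x) = x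
      rw [← Sheaf.H.map_comp_apply, ← Functor.map_comp, e.inv_hom_id, CategoryTheory.Functor.map_id,
        Sheaf.H.map_id_apply]
  exact h.injective.subsingleton

/-- The two sheaves of homomorphisms agree for a quasi-coherent source. -/
theorem nonempty_homSh_iso {Z : Scheme.{u}} (F N : Z.Modules) [DCoh.HasSheafHom F] [Coh.IsQCoh F] :
    Nonempty ((DCoh.sheafHom F).obj N ≅ RefHull.homSh F N) := by
  haveI : ModSite.HasSheafHom (O := Z.sheaf) F := ModTensor.hasSheafHom (O := Z.sheaf) F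
  haveI := DefExtLib.isIso_toHomSh F N
  exact ⟨((Adjunction.rightAdjointUniq (ModSite.sheafHomAdj (O := Z.sheaf) F)
    ((DCoh.sheafHomAdj F).ofNatIsoLeft (ModTensor.tensorSymm Z.sheaf F).symm)).app N).symm ≪≫
    asIso (DefExtLib.toHomSh F N)⟩

variable {P : Prob.{u}}

/-- A lift on everything is a global lift. -/
theorem Prob.exists_of_cover {α : Type u} (O : α → P.T.Opens) (hO : ⊤ ≤ iSup O) (M : ∀ a, P.Lift (O a))
    (h : ∀ a b, P.T.homOfLE (inf_le_left : O a ⊓ O b ≤ O a) ≫ (M a).h =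
      P.T.homOfLE (inf_le_right : O a ⊓ O b ≤ O b) ≫ (M b).h) :
    ∃ b' : P.T ⟶ P.X, b' ≫ P.f = P.a ∧ P.i ≫ b' = P.a₀ := by
  let C := P.T.openCoverOfIsOpenCover O (eq_top_iff.2 hO)
  have hC : ∀ a b : α, pullback.fst (O a).ι (O b).ι ≫ (M a).h = pullback.snd (O a).ι (O b).ι ≫ (M b).h := fun a b => by
    let j : pullback (O a).ι (O b).ι ⟶ (O a ⊓ O b : P.T.Opens) :=
      IsOpenImmersion.lift (O a ⊓ O b).ι (pullback.fst (O a).ι (O b).ι ≫ (O a).ι) (by
        rintro _ ⟨y, rfl⟩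
        rw [Scheme.Opens.range_ι]
        refine ⟨(pullback.fst (O a).ι (O b).ι y).2, ?_⟩
        show (O a).ι (pullback.fst (O a).ι (O b).ι y) ∈ O b
        rw [← Scheme.Hom.comp_apply, pullback.condition, Scheme.Hom.comp_apply]
        exact (pullback.snd (O a).ι (O b).ι y).2)
    have e₁ : j ≫ P.T.homOfLE inf_le_left = pullback.fst (O a).ι (O b).ι := by
      rw [← cancel_mono (O a).ι, Category.assoc, Scheme.homOfLE_ι, IsOpenImmersion.lift_fac]
    have e₂ : j ≫ P.T.homOfLE inf_le_right = pullback.snd (O a).ι (O b).ι := by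
      rw [← cancel_mono (O b).ι, Category.assoc, Scheme.homOfLE_ι, IsOpenImmersion.lift_fac, pullback.condition]
    rw [← e₁, ← e₂, Category.assoc, Category.assoc, h]
  refine ⟨C.glueMorphisms (fun a => (M a).h) hC, C.hom_ext _ _ fun a => ?_, ?_⟩
  · rw [Scheme.Cover.ι_glueMorphisms_assoc]
    exact (M a).hf
  · refine (P.T₀.openCoverOfIsOpenCover (fun a => P.i ⁻¹ᵁ O a) (eq_top_iff.2 fun z _ => ?_)).hom_ext _ _ fun a => ?_
    · obtain ⟨a, ha⟩ := Opens.mem_iSup.1 (hO (show P.i z ∈ (⊤ : P.T.Opens) from trivial))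
      exact Opens.mem_iSup.2 ⟨a, ha⟩
    · show (P.i ⁻¹ᵁ O a).ι ≫ P.i ≫ _ = (P.i ⁻¹ᵁ O a).ι ≫ P.a₀
      rw [← morphismRestrict_ι_assoc]
      refine (congrArg ((P.i ∣_ O a) ≫ ·) (C.ι_glueMorphisms (fun a => (M a).h) hC a)).trans ?_
      exact (M a).hi

/-- Restriction of a lift. -/
def Prob.Lift.res {O U : P.T.Opens} (L : P.Lift O) (h : U ≤ O) : P.Lift U where
  h := P.T.homOfLE h ≫ L.h
  hf := by rw [Category.assoc, L.hf, Scheme.homOfLE_ι_assoc]
  hi := by
    have e : (P.i ∣_ U) ≫ P.T.homOfLE h = P.T₀.homOfLE (P.i.preimage_mono h) ≫ (P.i ∣_ O) := by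
      rw [← cancel_mono O.ι, Category.assoc, Category.assoc, Scheme.homOfLE_ι, morphismRestrict_ι, morphismRestrict_ι,
        Scheme.homOfLE_ι_assoc]
    rw [← Category.assoc, e, Category.assoc, L.hi, Scheme.homOfLE_ι_assoc]

/-- The cohomological criterion. -/
theorem exists_lift_of_subsingleton [QuasiSeparated P.f]
    (hloc : ∀ z : P.T₀, ∃ (O : P.T.Opens) (_ : P.Lift O), P.i z ∈ O)
    [Subsingleton (Coh.HH P.T₀ P.H 1)] : ∃ b' : P.T ⟶ P.X, b' ≫ P.f = P.a ∧ P.i ≫ b' = P.a₀ := by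
  choose O L hO using hloc
  choose r hr hrO hrV using fun z => P.exists_ix z (hO z) (show P.a₀ z ∈ (⊤ : P.X.Opens) from trivial)
  let W : P.T₀ → P.T₀.Opens := fun z => P.i ⁻¹ᵁ (r z).O
  choose c hc using fun a b => exists_isDiff (L a) (L b)
    (inf_le_left.trans (hrO a) : (r a).O ⊓ (r b).O ≤ O a) (inf_le_right.trans (hrO b))
  let F : AbSh P.T₀ := Coh.toAb P.H
  haveI : Subsingleton (HU (⊤ : Opens P.T₀) F 1) := (HHEquiv P.H 1).symm.toEquiv.subsingleton
  obtain ⟨h, hh⟩ := ObsLiftLib.exists_coboundary W (fun z _ => Opens.mem_iSup.mpr ⟨z, hr z⟩) F c (fun a b d => by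
    show rH _ (c a b) + rH _ (c b d) = rH _ (c a d)
    have h₁ := (hc a b).res (U' := (r a).O ⊓ (r b).O ⊓ (r d).O) inf_le_left
    have h₂ := (hc b d).res (U' := (r a).O ⊓ (r b).O ⊓ (r d).O) (le_inf (inf_le_left.trans inf_le_right) inf_le_right)
    have h₃ := (hc a d).res (U' := (r a).O ⊓ (r b).O ⊓ (r d).O) (le_inf (inf_le_left.trans inf_le_left) inf_le_right)
    exact (h₁.add h₂).unique h₃)
  choose M hM using fun z => exists_act (L z) (r z) (hrO z) (-(h z : Γ(P.H, P.i ⁻¹ᵁ (r z).O)))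
  refine P.exists_of_cover (fun z => (r z).O) (fun x _ => ?_) M fun a b => ?_
  · obtain ⟨z, rfl⟩ := P.surj x
    exact Opens.mem_iSup.2 ⟨z, hr z⟩
  · obtain ⟨d, hd⟩ := exists_isDiff (M a) (M b) (inf_le_left : (r a).O ⊓ (r b).O ≤ (r a).O) inf_le_right
    have key := ((((hM a).res inf_le_left).add hd).unique ((hc a b).add ((hM b).res inf_le_right)))
    have hab : rH (P.i.preimage_mono (inf_le_right : (r a).O ⊓ (r b).O ≤ (r b).O)) (h b) -
        rH (P.i.preimage_mono (inf_le_left : (r a).O ⊓ (r b).O ≤ (r a).O)) (h a) = c a b := hh a b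
    have hd0 : d = 0 := by
      have hn : ∀ {U U' : P.T₀.Opens} (g : U' ≤ U) (x : Γ(P.H, U)), rH g (-x) = -rH g x := fun g x =>
        map_neg (P.H.presheaf.map (homOfLE g).op).hom x
      rw [hn, hn, ← hab] at key
      have k2 := congrArg (fun t => rH (P.i.preimage_mono (inf_le_left : (r a).O ⊓ (r b).O ≤ (r a).O)) (h a) + t) key
      simp only [add_neg_cancel_left] at k2
      rw [k2]
      abel
    exact (hd0 ▸ hd).eq_of_zero

/-- Lifts are unique when there are no homomorphisms. -/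
theorem eq_of_subsingleton [QuasiSeparated P.f] (h0 : Subsingleton (P.F ⟶ P.N)) {b b' : P.T ⟶ P.X}
    (hb : b ≫ P.f = P.a) (hb₀ : P.i ≫ b = P.a₀) (hb' : b' ≫ P.f = P.a) (hb₀' : P.i ≫ b' = P.a₀) : b = b' := by
  let mk : ∀ c : P.T ⟶ P.X, c ≫ P.f = P.a → P.i ≫ c = P.a₀ → P.Lift ⊤ := fun c e e₀ =>
    ⟨(⊤ : P.T.Opens).ι ≫ c, by rw [Category.assoc, e], by rw [morphismRestrict_ι_assoc, e₀]⟩
  obtain ⟨d, hd⟩ := exists_isDiff (mk b hb hb₀) (mk b' hb' hb₀') (le_refl ⊤) le_rfl
  have hd0 : d = 0 := by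
    have : HomLib.toHom d = HomLib.toHom (0 : Γ(P.H, (⊤ : P.T₀.Opens))) := h0.elim _ _
    exact (HomLib.ofHom_toHom d).symm.trans ((congrArg (fun φ => RefHull.ofHom φ ⊤) this).trans (HomLib.ofHom_toHom 0))
  have h := (hd0 ▸ hd).eq_of_zero
  simp only [mk, Scheme.homOfLE_rfl, Category.id_comp] at h
  haveI : IsIso (⊤ : P.T.Opens).ι := inferInstanceAs (IsIso (Scheme.topIso P.T).hom)
  exact (cancel_epi (⊤ : P.T.Opens).ι).1 h

end Groth.Agent.InfLiftLib
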