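import Groth.Agent.TanHilbLib.Sect
import Groth.Agent.HomLib.Basic

/-!
Lifts of a morphism along a closed immersion, on open subschemes, and their maps on functions.
-/

set_option autoImplicit false
set_option backward.isDefEq.respectTransparency false
set_option backward.isDefEq.respectTransparency.types false
set_option linter.style.haveILetI false

universe u

open CategoryTheory CategoryTheory.Limits AlgebraicGeometry TopologicalSpace Opposite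

noncomputable section

namespace Groth.Agent.InfLiftLib

/-- A lifting problem: a square with a closed immersion with square zero ideal on the left. -/
structure Prob where
  {X S T T₀ : Scheme.{u}}
  f : X ⟶ S
  i : T₀ ⟶ T
  a : T ⟶ S
  a₀ : T₀ ⟶ X
  [closed : IsClosedImmersion i]
  sq : ∀ (U : T.affineOpens) (x y : Γ(T, U.1)),
    x ∈ RingHom.ker (i.app U.1).hom → y ∈ RingHom.ker (i.app U.1).hom → x * y = 0
  comm : a₀ ≫ f = i ≫ a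

attribute [instance] Prob.closed

variable (P : Prob.{u})

/-- The thickening is surjective. -/
theorem Prob.surj (x : P.T) : ∃ z, P.i z = x := by
  obtain ⟨U, hU, hxU, -⟩ := exists_isAffineOpen_mem_and_subset (show x ∈ (⊤ : P.T.Opens) from trivial)
  have hU₀ : IsAffineOpen (P.i ⁻¹ᵁ U) := hU.preimage P.i
  obtain ⟨q, hq⟩ : hU.primeIdealOf ⟨x, hxU⟩ ∈ Set.range (PrimeSpectrum.comap (P.i.app U).hom) := by
    rw [range_comap_of_surjective _ _ (P.i.app_surjective U hU), PrimeSpectrum.mem_zeroLocus]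
    exact fun b hb => (Ideal.IsPrime.mul_mem_iff_mem_or_mem (hU.primeIdealOf ⟨x, hxU⟩).isPrime).1
      (show b * b ∈ (hU.primeIdealOf ⟨x, hxU⟩).asIdeal by
        rw [P.sq ⟨U, hU⟩ b b hb hb]; exact zero_mem _) |>.elim id id
  refine ⟨hU₀.fromSpec q, ?_⟩
  have h := IsAffineOpen.SpecMap_appLE_fromSpec P.i hU hU₀ le_rfl
  rw [← Scheme.Hom.comp_apply, ← h, Scheme.Hom.comp_apply, ← Scheme.Hom.app_eq_appLE]
  refine (congrArg hU.fromSpec (show Spec.map (P.i.app U) q = hU.primeIdealOf ⟨x, hxU⟩ from hq)).trans ?_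
  exact hU.fromSpec_primeIdealOf ⟨x, hxU⟩

/-- A lift on an open subscheme. -/
structure Prob.Lift (O : P.T.Opens) where
  h : (↑O : Scheme.{u}) ⟶ P.X
  hf : h ≫ P.f = O.ι ≫ P.a
  hi : (P.i ∣_ O) ≫ h = (P.i ⁻¹ᵁ O).ι ≫ P.a₀

/-- An affine index: small affine opens in the three schemes. -/
structure Prob.Ix where
  O : P.T.Opens
  V : P.X.Opens
  W : P.S.Opens
  affO : IsAffineOpen O
  affV : IsAffineOpen V
  affW : IsAffineOpen W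
  VW : V ≤ P.f ⁻¹ᵁ W
  OV : P.i ⁻¹ᵁ O ≤ P.a₀ ⁻¹ᵁ V

variable {P}

theorem Prob.Ix.aff₀ (r : P.Ix) : IsAffineOpen (P.i ⁻¹ᵁ r.O) := r.affO.preimage P.i

theorem Prob.Ix.OW (r : P.Ix) : r.O ≤ P.a ⁻¹ᵁ r.W := fun x hx => by
  obtain ⟨z, rfl⟩ := P.surj x
  show (P.i ≫ P.a) z ∈ r.W
  rw [← P.comm]
  exact r.VW (r.OV hx)

/-- There are small indices. -/
theorem Prob.exists_ix (z : P.T₀) {O : P.T.Opens} (hO : P.i z ∈ O) {V : P.X.Opens} (hV : P.a₀ z ∈ V) :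
    ∃ r : P.Ix, P.i z ∈ r.O ∧ r.O ≤ O ∧ r.V ≤ V := by
  obtain ⟨W, hW, hzW, -⟩ := exists_isAffineOpen_mem_and_subset
    (show P.f (P.a₀ z) ∈ (⊤ : P.S.Opens) from trivial)
  obtain ⟨V', hV', hzV', hVle⟩ := exists_isAffineOpen_mem_and_subset
    (show P.a₀ z ∈ V ⊓ P.f ⁻¹ᵁ W from ⟨hV, hzW⟩)
  obtain ⟨G, hG, hpre⟩ := P.i.isEmbedding.isInducing.isOpen_iff.mp (P.a₀ ⁻¹ᵁ V').2
  obtain ⟨O', hO', hzO', hOle⟩ := exists_isAffineOpen_mem_and_subset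
    (show P.i z ∈ O ⊓ ⟨G, hG⟩ from ⟨hO, by
      show z ∈ P.i ⁻¹' G
      rw [hpre]
      exact hzV'⟩)
  exact ⟨⟨O', V', W, hO', hV', hW, hVle.trans inf_le_right, fun y hy => by
    show y ∈ (P.a₀ ⁻¹ᵁ V').carrier
    rw [← hpre]
    exact (hOle hy).2⟩, hzO', hOle.trans inf_le_left, hVle.trans inf_le_left⟩

variable {O₁ : P.T.Opens} (L : P.Lift O₁)

theorem Prob.Lift.le {O' : P.T.Opens} {V : P.X.Opens} (e : P.i ⁻¹ᵁ O' ≤ P.a₀ ⁻¹ᵁ V) :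
    O₁.ι ⁻¹ᵁ O' ≤ L.h ⁻¹ᵁ V := fun x hx => by
  obtain ⟨z, hz⟩ := P.surj (O₁.ι x)
  have hz₁ : P.i z ∈ O₁ := hz ▸ x.2
  have hx' : (P.i ∣_ O₁) ⟨z, hz₁⟩ = x := by
    apply Subtype.ext
    show O₁.ι ((P.i ∣_ O₁) ⟨z, hz₁⟩) = O₁.ι x
    rw [← Scheme.Hom.comp_apply, morphismRestrict_ι, ← hz]
    rfl
  show L.h x ∈ V
  rw [← hx', ← Scheme.Hom.comp_apply, L.hi, Scheme.Hom.comp_apply]
  exact e (show P.i z ∈ O' from hz ▸ hx)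

theorem le_image {O' : P.T.Opens} (hO : O' ≤ O₁) : O' ≤ O₁.ι ''ᵁ (O₁.ι ⁻¹ᵁ O') := by
  rw [Scheme.Hom.image_preimage_eq_opensRange_inf, Scheme.Opens.opensRange_ι]
  exact le_inf hO le_rfl

/-- The map on functions of a lift. -/
def Prob.Lift.φ {O' : P.T.Opens} (hO : O' ≤ O₁) {V : P.X.Opens} (e : P.i ⁻¹ᵁ O' ≤ P.a₀ ⁻¹ᵁ V) :
    Γ(P.X, V) ⟶ Γ(P.T, O') :=
  L.h.appLE V (O₁.ι ⁻¹ᵁ O') (L.le e) ≫ P.T.presheaf.map (homOfLE (le_image hO)).op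

theorem Prob.Lift.φ_res {O' O'' : P.T.Opens} (hO : O' ≤ O₁) (h' : O'' ≤ O') {V V' : P.X.Opens} (hV : V' ≤ V)
    (e : P.i ⁻¹ᵁ O' ≤ P.a₀ ⁻¹ᵁ V) (e' : P.i ⁻¹ᵁ O'' ≤ P.a₀ ⁻¹ᵁ V') :
    L.φ hO e ≫ P.T.presheaf.map (homOfLE h').op =
      P.X.presheaf.map (homOfLE hV).op ≫ L.φ (h'.trans hO) e' := by
  simp only [Prob.Lift.φ, Category.assoc, Scheme.Hom.map_appLE_assoc]
  rw [← L.h.appLE_map (L.le e) (homOfLE (O₁.ι.preimage_mono h')).op, Category.assoc]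
  simp only [Scheme.Opens.toScheme_presheaf_map, ← Functor.map_comp]
  rfl

theorem Prob.Lift.φ_res_apply {O' O'' : P.T.Opens} (hO : O' ≤ O₁) (h' : O'' ≤ O') {V V' : P.X.Opens} (hV : V' ≤ V)
    (e : P.i ⁻¹ᵁ O' ≤ P.a₀ ⁻¹ᵁ V) (e' : P.i ⁻¹ᵁ O'' ≤ P.a₀ ⁻¹ᵁ V') (b : Γ(P.X, V)) :
    L.φ (h'.trans hO) e' (P.X.presheaf.map (homOfLE hV).op b) =
      P.T.presheaf.map (homOfLE h').op (L.φ hO e b) :=
  congr($((L.φ_res hO h' hV e e').symm) b)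

theorem Prob.Lift.φ_base {O' : P.T.Opens} (hO : O' ≤ O₁) {V : P.X.Opens} (e : P.i ⁻¹ᵁ O' ≤ P.a₀ ⁻¹ᵁ V)
    {W : P.S.Opens} (hVW : V ≤ P.f ⁻¹ᵁ W) (hOW : O' ≤ P.a ⁻¹ᵁ W) :
    P.f.appLE W V hVW ≫ L.φ hO e = P.a.appLE W O' hOW := by
  rw [Prob.Lift.φ, Scheme.Hom.appLE_comp_appLE_assoc]
  simp only [L.hf]
  rw [← Scheme.Hom.appLE_comp_appLE O₁.ι P.a W O' _ hOW le_rfl, Category.assoc, Scheme.Opens.ι_appLE,
    ← Functor.map_comp, Subsingleton.elim (_ ≫ (homOfLE (le_image hO)).op) (𝟙 (op O')),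
    CategoryTheory.Functor.map_id, Category.comp_id]

theorem Prob.Lift.φ_mod {O' : P.T.Opens} (hO : O' ≤ O₁) {V : P.X.Opens} (e : P.i ⁻¹ᵁ O' ≤ P.a₀ ⁻¹ᵁ V) :
    L.φ hO e ≫ P.i.app O' = P.a₀.appLE V (P.i ⁻¹ᵁ O') e := by
  have hG : P.i ⁻¹ᵁ O' ≤ (P.i ⁻¹ᵁ O₁).ι ''ᵁ ((P.i ∣_ O₁) ⁻¹ᵁ (O₁.ι ⁻¹ᵁ O')) := by
    rw [image_morphismRestrict_preimage]
    exact P.i.preimage_mono (le_image hO)
  have h1 : L.φ hO e ≫ P.i.app O' = (L.h.appLE V (O₁.ι ⁻¹ᵁ O') (L.le e) ≫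
      (P.i ∣_ O₁).appLE (O₁.ι ⁻¹ᵁ O') ((P.i ∣_ O₁) ⁻¹ᵁ (O₁.ι ⁻¹ᵁ O')) le_rfl) ≫
        P.T₀.presheaf.map (homOfLE hG).op := by
    simp only [Prob.Lift.φ, morphismRestrict_appLE, Category.assoc, Scheme.Hom.appLE_map]
    rw [Scheme.Hom.app_eq_appLE, Scheme.Hom.map_appLE]
  rw [h1, Scheme.Hom.appLE_comp_appLE]
  simp only [L.hi]
  have hx : (P.i ∣_ O₁) ⁻¹ᵁ (O₁.ι ⁻¹ᵁ O') ≤ (P.i ⁻¹ᵁ O₁).ι ⁻¹ᵁ (P.i ⁻¹ᵁ O') := fun x hx => by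
    show ((P.i ⁻¹ᵁ O₁).ι ≫ P.i) x ∈ O'
    rw [← morphismRestrict_ι]
    exact hx
  rw [← Scheme.Hom.appLE_comp_appLE (P.i ⁻¹ᵁ O₁).ι P.a₀ V (P.i ⁻¹ᵁ O') ((P.i ∣_ O₁) ⁻¹ᵁ (O₁.ι ⁻¹ᵁ O')) e hx,
    Category.assoc, Scheme.Opens.ι_appLE, ← Functor.map_comp,
    Subsingleton.elim (_ ≫ (homOfLE hG).op) (𝟙 (op (P.i ⁻¹ᵁ O'))), CategoryTheory.Functor.map_id, Category.comp_id]

theorem Prob.Lift.φ_mod_apply {O' : P.T.Opens} (hO : O' ≤ O₁) {V : P.X.Opens} (e : P.i ⁻¹ᵁ O' ≤ P.a₀ ⁻¹ᵁ V)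
    (b : Γ(P.X, V)) : P.i.app O' (L.φ hO e b) = P.a₀.appLE V (P.i ⁻¹ᵁ O') e b :=
  congr($(L.φ_mod hO e) b)

theorem Prob.Lift.spec_φ (r : P.Ix) (hO : r.O ≤ O₁) :
    Spec.map (L.φ hO r.OV) ≫ r.affV.fromSpec = r.affO.isoSpec.inv ≫ P.T.homOfLE hO ≫ L.h := by
  have hU : IsAffineOpen (O₁.ι ⁻¹ᵁ r.O) :=
    (Scheme.Hom.isAffineOpen_iff_of_isOpenImmersion O₁.ι).1 (by
      rw [Scheme.Hom.image_preimage_eq_opensRange_inf, Scheme.Opens.opensRange_ι, inf_eq_right.2 hO]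
      exact r.affO)
  have key : Spec.map (P.T.presheaf.map (homOfLE (le_image hO)).op) ≫ hU.fromSpec =
      r.affO.isoSpec.inv ≫ P.T.homOfLE hO := by
    rw [← cancel_mono O₁.ι, Category.assoc, Category.assoc, Scheme.homOfLE_ι, IsAffineOpen.isoSpec_inv_ι,
      ← IsAffineOpen.SpecMap_appLE_fromSpec O₁.ι r.affO hU le_rfl, Scheme.Opens.ι_appLE, ← Spec.map_comp_assoc,
      ← Functor.map_comp, Subsingleton.elim (_ ≫ (homOfLE (le_image hO)).op) (𝟙 (op r.O)),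
      CategoryTheory.Functor.map_id, Spec.map_id, Category.id_comp]
  rw [Prob.Lift.φ, Spec.map_comp, Category.assoc, IsAffineOpen.SpecMap_appLE_fromSpec _ r.affV hU, ← Category.assoc,
    key, Category.assoc]

/-- Lifts are determined by their maps on functions. -/
theorem Prob.lift_ext {O₁ O₂ : P.T.Opens} (L : P.Lift O₁) (L' : P.Lift O₂) {U : P.T.Opens} (h₁ : U ≤ O₁) (h₂ : U ≤ O₂)
    (h : ∀ (r : P.Ix) (hr : r.O ≤ U), L.φ (hr.trans h₁) r.OV = L'.φ (hr.trans h₂) r.OV) :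
    P.T.homOfLE h₁ ≫ L.h = P.T.homOfLE h₂ ≫ L'.h := by
  choose r hr hrU hrV using fun x : U => P.exists_ix (P.surj x.1).choose
    (show P.i (P.surj x.1).choose ∈ U by rw [(P.surj x.1).choose_spec]; exact x.2)
    (show P.a₀ (P.surj x.1).choose ∈ (⊤ : P.X.Opens) from trivial)
  refine Scheme.Cover.hom_ext ((↑U : Scheme.{u}).openCoverOfIsOpenCover (fun x : U => U.ι ⁻¹ᵁ (r x).O)
    (Opens.ext (Set.eq_univ_of_forall fun y => ?_))) _ _ fun x => ?_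
  · refine Opens.mem_iSup.2 ⟨y, ?_⟩
    show U.ι y ∈ (r y).O
    have := hr y
    rwa [(P.surj y.1).choose_spec] at this
  · let j : (↑(U.ι ⁻¹ᵁ (r x).O) : Scheme.{u}) ⟶ ↑(r x).O :=
      IsOpenImmersion.lift (r x).O.ι ((U.ι ⁻¹ᵁ (r x).O).ι ≫ U.ι) (by
        rintro _ ⟨y, rfl⟩
        rw [Scheme.Opens.range_ι]
        exact y.2)
    have hj : j ≫ P.T.homOfLE (hrU x) = (U.ι ⁻¹ᵁ (r x).O).ι := by
      rw [← cancel_mono U.ι, Category.assoc, Scheme.homOfLE_ι, IsOpenImmersion.lift_fac]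
    show (U.ι ⁻¹ᵁ (r x).O).ι ≫ _ = (U.ι ⁻¹ᵁ (r x).O).ι ≫ _
    rw [← hj, Category.assoc, Category.assoc]
    refine congrArg (j ≫ ·) ?_
    rw [← cancel_epi (r x).affO.isoSpec.inv, Scheme.homOfLE_homOfLE_assoc, Scheme.homOfLE_homOfLE_assoc,
      ← L.spec_φ, ← L'.spec_φ, h (r x) (hrU x)]

/-- A ring map gives a lift on an affine index. -/
theorem Prob.exists_lift (r : P.Ix) (ψ : Γ(P.X, r.V) ⟶ Γ(P.T, r.O))
    (hb : P.f.appLE r.W r.V r.VW ≫ ψ = P.a.appLE r.W r.O r.OW)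
    (hm : ψ ≫ P.i.app r.O = P.a₀.appLE r.V (P.i ⁻¹ᵁ r.O) r.OV) :
    ∃ L : P.Lift r.O, L.φ le_rfl r.OV = ψ := by
  let g : (↑r.O : Scheme.{u}) ⟶ P.X := r.affO.isoSpec.hom ≫ Spec.map ψ ≫ r.affV.fromSpec
  have e₁ : g ≫ P.f = r.O.ι ≫ P.a := by
    simp only [g, Category.assoc, ← IsAffineOpen.SpecMap_appLE_fromSpec P.f r.affW r.affV r.VW,
      ← Spec.map_comp_assoc, hb, IsAffineOpen.SpecMap_appLE_fromSpec P.a r.affW r.affO r.OW,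
      IsAffineOpen.isoSpec_hom_fromSpec_assoc]
  have hres : (P.i ∣_ r.O) ≫ r.affO.isoSpec.hom = r.aff₀.isoSpec.hom ≫ Spec.map (P.i.app r.O) := by
    rw [← cancel_mono r.affO.fromSpec, Category.assoc, Category.assoc, IsAffineOpen.isoSpec_hom_fromSpec,
      morphismRestrict_ι, Scheme.Hom.app_eq_appLE, IsAffineOpen.SpecMap_appLE_fromSpec P.i r.affO r.aff₀,
      IsAffineOpen.isoSpec_hom_fromSpec_assoc]
  have e₂ : (P.i ∣_ r.O) ≫ g = (P.i ⁻¹ᵁ r.O).ι ≫ P.a₀ := by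
    simp only [g, ← Category.assoc, hres]
    simp only [Category.assoc, ← Spec.map_comp_assoc, hm,
      IsAffineOpen.SpecMap_appLE_fromSpec P.a₀ r.affV r.aff₀, IsAffineOpen.isoSpec_hom_fromSpec_assoc]
  refine ⟨⟨g, e₁, e₂⟩, Spec.map_injective ?_⟩
  rw [← cancel_mono r.affV.fromSpec, Prob.Lift.spec_φ]
  simp [g]

end Groth.Agent.InfLiftLib
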